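import Cfsg.Agent.EqLemmas
import Cfsg.Agent.Lib.FusionIso.Components
import Cfsg.Agent.Lib.FusionIso.Realize
import Cfsg.Agent.Lib.FusionNormal.Generation

/-
Transport of subsystems of `p`-power index and of index prime to `p` along isomorphisms of fusion systems.
Main results: `mem_pullSub_autGroup`, `isSubsystemOf_pullSub`, `pPowerIndex_pullSub`,
`primeIndex_pullSub`, `im_hyperfocal_eq`, `homOf`, `isRealizedBy_of_iso`, `castIso`,
`pullSub_mono`.
-/

set_option autoImplicit false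

namespace Cfsg.Agent.FusionResidual

open Cfsg Cfsg.FusionSystem Cfsg.Agent.Fusion Cfsg.Agent.FusionIso Cfsg.Agent.FusionNormal

variable {Ω Ω' : Type*} [Group Ω] [Group Ω'] {S : Subgroup Ω} {S' : Subgroup Ω'}
  {F : FusionSystem S} {F' : FusionSystem S'} (e : FIso F F')
  {T : Subgroup Ω} {T' : Subgroup Ω'}

theorem isSubsystemOf_pullSub (hT : T ≤ S) (hT' : T' = e.im T) {E' : FusionSystem T'}
    (h : E'.IsSubsystemOf F') : (e.pullSub hT hT' E').IsSubsystemOf F := by
  rintro P φ ⟨hP, hφ, hm⟩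
  exact mem_of_isMap ((e.isMap_iff (hP.trans hT) (f := toFn φ) fun x hx => by
    rw [toFn_apply φ hx]; exact hT (hφ _)).1 (isMap_of_sub h hm)) fun x => (toFn_coe φ x).symm

theorem mem_pullSub_autGroup (hT : T ≤ S) (hT' : T' = e.im T) {E' : FusionSystem T'}
    {P : Subgroup Ω} (hP : P ≤ T) {α : MulAut P} (hα : α ∈ F.autGroup P)
    (h : ∀ α' ∈ F'.autGroup (e.im P), orderOf α' = orderOf α → α' ∈ E'.autGroup (e.im P)) :
    α ∈ (e.pullSub hT hT' E').autGroup P := by
  have hPS := hP.trans hT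
  have hm := (e.congr_mem_autGroup_iff hPS).2 hα
  have hE := h _ hm (MulEquiv.orderOf_eq (MulAut.congr (e.equivIm hPS)) α)
  refine (mem_autGroup_iff hP).2 ((e.isMap_pullSub_iff hT hT' E' hP
    fun x hx => hP (autFn_mem α hx)).2 ?_)
  refine ((mem_autGroup_iff ((e.im_mono hP).trans hT'.ge)).1 hE).congr fun y hy => ?_
  obtain ⟨x, hx, rfl⟩ := (e.mem_im hPS).1 hy
  rw [e.fn_apply _ (hPS hx), autFn_apply _ hy, e.equivIm_congr_apply hPS α hx, autFn_apply α hx]

variable {p : ℕ}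

theorem pPowerIndex_pullSub (hT : T ≤ S) (hT' : T' = e.im T) {E' : FusionSystem T'}
    (h : E'.HasPPowerIndexIn F' p) [Fact p.Prime] :
    (e.pullSub hT hT' E').HasPPowerIndexIn F p := by
  refine ⟨isSubsystemOf_pullSub e hT hT' h.1, ?_, fun P hP => ?_⟩
  · rw [← e.im_le_im_iff (hyperfocal_le F) hT, ← hT']
    exact (e.im_hyperfocal p).trans h.2.1
  · rw [Subgroup.map_le_iff_le_comap, Cfsg.pResidual, Subgroup.closure_le]
    intro α hα
    refine mem_pullSub_autGroup e hT hT' hP α.2 fun α' hα' ho => ?_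
    refine h.2.2 _ ((e.im_mono hP).trans hT'.ge) ⟨⟨α', hα'⟩, Subgroup.subset_closure ?_, rfl⟩
    show (orderOf (⟨α', hα'⟩ : F'.autGroup _)).Coprime p
    rw [Subgroup.orderOf_mk, ho]
    show (orderOf ((F.autGroup P).subtype α)).Coprime p
    rw [Subgroup.coe_subtype, Subgroup.orderOf_coe]
    exact hα

theorem primeIndex_pullSub (hT' : S' = e.im S) {E' : FusionSystem S'}
    (h : E'.HasPrimeToPIndexIn F' p) :
    (e.pullSub le_rfl hT' E').HasPrimeToPIndexIn F p := by
  refine ⟨isSubsystemOf_pullSub e le_rfl hT' h.1, fun P hP => ?_⟩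
  rw [Subgroup.map_le_iff_le_comap, Subgroup.closure_le]
  intro α hα
  obtain ⟨k, hk⟩ := hα
  refine mem_pullSub_autGroup e le_rfl hT' hP α.2 fun α' hα' ho => ?_
  refine h.2 _ (e.im_le hP) ⟨⟨α', hα'⟩, Subgroup.subset_closure ⟨k, ?_⟩, rfl⟩
  rw [Subgroup.orderOf_mk, ho, Subgroup.coe_subtype, Subgroup.orderOf_coe, hk]

theorem im_hyperfocal_eq [Fact p.Prime] :
    e.im (F.hyperfocalSubgroup p) = F'.hyperfocalSubgroup p := by
  refine le_antisymm (e.im_hyperfocal p) ?_
  conv_lhs => rw [← e.im_symm_im (hyperfocal_le (p := p) F')]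
  exact e.im_mono (e.symm.im_hyperfocal p)

/-- The homomorphism underlying an isomorphism of fusion systems. -/
def homOf : S →* Ω' := MonoidHom.mk' (fun s => e.toFun s) fun a b => e.mul a a.2 b b.2

theorem homOf_range : (homOf e).range = S' := by
  ext y
  exact ⟨by rintro ⟨s, rfl⟩; exact e.mem s s.2,
    fun hy => ⟨⟨e.invFun y, e.mem' y hy⟩, e.right y hy⟩⟩

theorem isRealizedBy_of_iso {H : Type*} [Group H] {R : Subgroup H}
    (e : FIso F (groupFusionSystem R)) : F.IsRealizedBy (homOf e) := by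
  refine ⟨fun a b h => Subtype.ext (e.inj a.2 b.2 h), fun P hP φ hφ => ⟨fun hm => ?_, ?_⟩⟩
  · obtain ⟨-, g, hg⟩ := isMap_group_iff.1 (e.isMap_fn (isMap_toFn hm))
    refine ⟨g, fun x => ?_⟩
    have := (hg _ (e.mem_im_of_mem x.2)).2
    rwa [e.fn_apply _ (hP x.2), toFn_coe] at this
  · rintro ⟨g, hg⟩
    refine mem_of_isMap ((e.isMap_iff hP (f := toFn φ) fun x hx => by
      rw [toFn_apply φ hx]; exact hφ _).1 (isMap_group_iff.2 ⟨e.im_le hP, g, fun y hy => ?_⟩))
      fun x => (toFn_coe φ x).symm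
    obtain ⟨x, hx, rfl⟩ := (e.mem_im hP).1 hy
    have h1 : e.toFun (φ ⟨x, hx⟩) = g * e.toFun x * g⁻¹ := hg ⟨x, hx⟩
    rw [e.fn_apply _ (hP hx), toFn_apply φ hx, ← h1]
    exact ⟨e.mem _ (hφ _), rfl⟩

/-- Equal fusion systems are isomorphic. -/
def castIso {E₁ E₂ : FusionSystem S} (h : E₁ = E₂) : FIso E₁ E₂ where
  toFun := id
  invFun := id
  mem _ hx := hx
  mem' _ hx := hx
  left _ _ := rfl
  right _ _ := rfl
  mul _ _ _ _ := rfl
  fwd P f hf := by
    have : imT id P = P := by simp [imT]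
    rw [this]
    exact h ▸ hf
  bwd P f hf := by
    have : imT id P = P := by simp [imT]
    rw [this]
    exact h.symm ▸ hf

/-- An inclusion between systems over the whole of `S` can be pushed along an isomorphism. -/
theorem le_of_pullSub_le (hT : T ≤ S) (hT' : T' = e.im T) {A B : FusionSystem T'}
    (h : e.pullSub hT hT' A ≤ e.pullSub hT hT' B) : A ≤ B := by
  refine le_of_isMap fun P' f' hf' => ?_
  have hle := hf'.le
  have hP' : P' ≤ S' := (hle.trans hT'.le).trans (e.im_le hT)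
  let g := e.symm.fn f'
  have hP : e.symm.im P' ≤ T := fun x hx => by
    obtain ⟨y, hy, rfl⟩ := (e.symm.mem_im hP').1 hx
    exact e.invFun_mem_of_eq hT hT' (hle hy)
  have hg : ∀ x ∈ e.symm.im P', g x ∈ T := fun x hx => by
    obtain ⟨y, hy, rfl⟩ := (e.symm.mem_im hP').1 hx
    show e.symm.fn f' (e.symm.toFun y) ∈ T
    rw [e.symm.fn_apply _ (hP' hy)]
    exact e.invFun_mem_of_eq hT hT' (hf'.mem hy)
  have hval : ∀ y ∈ P', e.fn g y = f' y := fun y hy => by
    show e.toFun (e.invFun (f' (e.toFun (e.invFun y)))) = f' y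
    rw [e.right y (hP' hy), e.right _ (e.im_le hT (hT'.le (hf'.mem hy)))]
  have hA : IsMap (e.pullSub hT hT' A) (e.symm.im P') g := by
    refine (e.isMap_pullSub_iff hT hT' A hP hg).2 ?_
    rw [e.im_symm_im hP']
    exact hf'.congr fun y hy => (hval y hy).symm
  have hB := (e.isMap_pullSub_iff hT hT' B hP hg).1 (isMap_of_le h hA)
  rw [e.im_symm_im hP'] at hB
  exact hB.congr hval

end Cfsg.Agent.FusionResidual
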