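import Cfsg.Agent.EqLemmas
import Cfsg.Agent.Lib.FusionIso.ComponentConj
import Cfsg.Agent.Lib.Fusion.NormalSeries
import Cfsg.Agent.Lib.Fusion.Realized
import Cfsg.Agent.Lib.FusionCrit.NormalResidual
import Cfsg.Agent.Lib.FusionResidual.Transport
import Cfsg.Agent.Lib.FusionTate.Lift
import Cfsg.Agent.S5124
import Cfsg.Agent.S5145

/-
Constrainedness goes up from the residual subsystems.
Main results: `isNormal_of_lcs`, `isConstrained_of_pPrimeResidual`, `isConstrained_of_pResidual`.
-/

set_option autoImplicit false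

namespace Cfsg.Agent.FusionResidual

open Cfsg Cfsg.FusionSystem Cfsg.Agent.Fusion Cfsg.Agent.FusionNormal

variable {Ω : Type*} [Group Ω] {S : Subgroup Ω} {F : FusionSystem S} {p : ℕ} [Fact p.Prime]
  [Finite S]

/-- A subgroup whose lower central series is strongly closed is normal. -/
theorem isNormal_of_lcs (hS : IsPGroup p S) (hF : F.IsSaturated p) {Q : Subgroup Ω} (hQ : Q ≤ S)
    (h : ∀ k, F.StronglyClosed (Q.lowerCentralSeries k)) : F.IsNormal Q := by
  obtain ⟨n, hn⟩ := exists_lowerCentralSeries_eq_bot (S := S) hS hQ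
  refine isNormal_of_chain hS hF n (fun i => Q.lowerCentralSeries (n - i))
    (by simpa using hn) (by simp [Subgroup.lowerCentralSeries_zero])
    (fun i j hij => Q.lowerCentralSeries_antitone (by omega))
    (by simpa [Subgroup.lowerCentralSeries_zero] using h 0) (fun i _ _ => h _) fun i hi => ?_
  rw [show n - i = n - (i + 1) + 1 by omega, Subgroup.lowerCentralSeries_succ,
    Subgroup.commutator_comm]

omit [Fact p.Prime] in
theorem eq_of_isConj_closed {Q R : Subgroup Ω} (hQ : F.StronglyClosed Q) (h : F.IsConj Q R) :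
    R = Q := by
  obtain ⟨f, hf⟩ := isConj_iff.1 h
  exact eq_of_le_of_card hQ.1 (fun y hy => by
    obtain ⟨x, hx, rfl⟩ := hf.exists_eq hy
    exact (stronglyClosed_iff.1 hQ).2 Q f hf.1 x hx hx) hf.card_eq.ge

omit [Fact p.Prime] [Finite S] in
/-- An automorphism of the system fixes the core. -/
theorem fiso_core_mem {E : FusionSystem S} (g : FusionIso.FIso E E) (hn : E.IsNormal E.core)
    {x : Ω} (hx : x ∈ E.core) : g.toFun x ∈ E.core :=
  normal_le_core (g.isNormal hn) (g.mem_im_of_mem hx)

theorem isConstrained_of_pPrimeResidual (hS : IsPGroup p S) (hF : F.IsSaturated p)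
    {E : FusionSystem S} (hE : F.IsPPrimeResidual p E) (hc : E.IsConstrained p) :
    F.IsConstrained p := by
  have hnc := nc_core hS hc
  have hQ : E.IsNormal E.core := S5145.result E
  have hCQ := hnc.centralizer_le
  set Q := E.core with hQdef
  have hQc := stronglyClosed_of_normal hQ
  -- automorphisms of `S` in `F` respect `E`
  have hpres : ∀ β ∈ F.autGroup S, ∀ P f, IsMap E P f →
      IsMap E (FusionIso.imT (autFn β) P) fun y => autFn β (f (autFn β⁻¹ y)) := by
    intro β hβ P f hf
    have hβm : IsMap F S (autFn β) := (mem_autGroup_iff le_rfl).1 hβ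
    have hβi : IsMap F S (autFn β⁻¹) := (mem_autGroup_iff le_rfl).1 (inv_mem hβ)
    let e := FusionIso.autIso hβm hβi
      (fun x hx => by
        rw [autFn_apply β hx, autFn_apply β⁻¹ (β ⟨x, hx⟩).2, MulAut.inv_apply_self])
      (fun x hx => by
        rw [autFn_apply β⁻¹ hx, autFn_apply β (β⁻¹ ⟨x, hx⟩).2, MulAut.apply_inv_self])
    have hle := hE.2.2 _ ((e.subIso le_rfl e.im_top.symm E).symm.isSaturated hE.1)
      (primeIndex_pullSub e e.im_top.symm hE.2.1)
    have h1 : IsMap (e.pullSub le_rfl e.im_top.symm E) P f := isMap_of_sub hle hf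
    exact (e.isMap_pullSub_iff le_rfl e.im_top.symm E hf.le fun x hx => hf.mem hx).1 h1
  have hiso : ∀ β ∈ F.autGroup S, ∀ x ∈ Q, autFn β x ∈ Q := by
    intro β hβ x hx
    let g : FusionIso.FIso E E :=
      { toFun := autFn β
        invFun := autFn β⁻¹
        mem := fun _ h => autFn_mem β h
        mem' := fun _ h => autFn_mem β⁻¹ h
        left := fun y hy => by
          rw [autFn_apply β hy, autFn_apply β⁻¹ (β ⟨y, hy⟩).2, MulAut.inv_apply_self]
        right := fun y hy => by
          rw [autFn_apply β⁻¹ hy, autFn_apply β (β⁻¹ ⟨y, hy⟩).2, MulAut.apply_inv_self]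
        mul := fun a ha b hb => ((mem_autGroup_iff le_rfl).1 hβ).map_mul ha hb
        fwd := hpres β hβ
        bwd := fun P f hf => by
          have := hpres β⁻¹ (inv_mem hβ) P f hf
          rwa [inv_inv] at this }
    exact fiso_core_mem g hQ hx
  have hQS : Q ≤ S := hQ.1
  have hlcs : ∀ k, F.StronglyClosed (Q.lowerCentralSeries k) := by
    intro k
    refine stronglyClosed_iff.2 ⟨(lowerCentralSeries_le_self Q k).trans hQS,
      fun P f hf x hxP hx => ?_⟩
    obtain ⟨β, hβ, g, hg, hfg⟩ := FusionCrit.exists_frattini hS hF hf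
    rw [hfg x hxP]
    have hgE : IsMap E P g :=
      hg.isMap_of fun R hR => FusionCrit.ppAut_eq_map F p R ▸ hE.2.1.2 R hR.1
    exact lowerCentralSeries_invariant (((mem_autGroup_iff le_rfl).1 hβ).mono hQS) (hiso β hβ) k _
      ((stronglyClosed_iff.1 (stronglyClosed_lowerCentralSeries hQ k)).2 P g hgE x hxP hx)
  have hQF : F.IsNormal Q := isNormal_of_lcs hS hF hQS hlcs
  exact ⟨hF, Q, hQF, hQS, fun R hR => eq_of_isConj_closed (stronglyClosed_of_normal hQF) hR ▸ hCQ⟩

theorem isConstrained_of_pResidual (hS : IsPGroup p S) {E : FusionSystem S} (hEs : E.IsSaturated p)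
    {T : Subgroup Ω} {D : FusionSystem T} (hTdef : T = E.hyperfocalSubgroup p)
    (hD : D.IsSaturated p ∧ D.HasPPowerIndexIn E p) (hc : D.IsConstrained p) :
    E.IsConstrained p := by
  have hT : E.StronglyClosed T := hTdef ▸ S5124.result p hS E hEs
  have hTS := hT.1
  have hfin : Finite T := finite_of_le hTS
  have hTp := hS.to_le hTS
  have hQ : D.IsNormal D.core := S5145.result D
  have hnc := nc_core hTp hc
  have hCQ := hnc.centralizer_le
  set Q := D.core with hQdef
  have hQT : Q ≤ T := hQ.1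
  -- conjugations by `S` preserve `Q`
  have hQs : ∀ s ∈ S, ∀ x ∈ Q, s * x * s⁻¹ ∈ Q := by
    intro s hs x hx
    let e := FusionIso.autIso (F := E) (IsMap.conj le_rfl hs) (IsMap.conj le_rfl (inv_mem hs))
      (fun y _ => by group) (fun y _ => by group)
    have hT' : T = e.im T := by rw [hTdef]; exact (im_hyperfocal_eq e).symm
    have h1 := pPowerIndex_pullSub e hTS hT' hD.2
    have h2 := (e.subIso hTS hT' D).symm.isSaturated hD.1
    have heq : e.pullSub hTS hT' D = D := ext_of_le
      (isSubsystemOf_of_pPowerIndex hTp h2 h1.1 hD.2 le_rfl)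
      (isSubsystemOf_of_pPowerIndex hTp hD.1 hD.2.1 h1 le_rfl)
    exact fiso_core_mem ((castIso heq.symm).trans (e.subIso hTS hT' D)) hQ hx
  -- closed in `D` and `S`-invariant gives closed in `E`
  have hclosed : ∀ A, A ≤ T → D.StronglyClosed A → (∀ s ∈ S, ∀ x ∈ A, s * x * s⁻¹ ∈ A) →
      E.StronglyClosed A := by
    intro A hAT hA hAs
    refine stronglyClosed_iff.2 ⟨hAT.trans hTS, fun P f hf => ?_⟩
    refine FusionChain.alperin_induction hS hEs (fun P f => ∀ x ∈ P, x ∈ A → f x ∈ A) ?_ ?_ ?_ ?_ hf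
    · intro P f g _ h he x hx hxA
      exact he x hx ▸ h x hx hxA
    · intro P P' f _ hle h x hx
      exact h x (hle hx)
    · intro P P' f g _ _ hfP h h' x hx hxA
      exact h' _ (hfP x hx) (h x hx hxA)
    intro R hR _ _ α hα _
    have hRS := hR.1
    have := finite_mulAut (S := S) hRS
    let B : Subgroup (MulAut R) :=
      { carrier := {a | ∀ x : R, (x : Ω) ∈ A ↔ ((a x : R) : Ω) ∈ A}
        one_mem' := fun x => Iff.rfl
        mul_mem' := fun {a b} ha hb x => (hb x).trans (ha (b x))
        inv_mem' := fun {a} ha x => by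
          have := ha (a⁻¹ x)
          rw [MulAut.apply_inv_self] at this
          exact this.symm }
    have hle : E.autGroup R ≤ B := by
      refine FusionNormal.autGroup_le_of_sylow_pResidual
        (isFullyAutomized_iff.1 (fullyAutomized_of_fullyNormalized hS hEs hR)).2 ?_ ?_
      · intro a ha x
        obtain ⟨s, hs, hsa⟩ := mem_autInducedBy_iff.1 ha
        rw [hsa]
        refine ⟨hAs s hs x, fun h => ?_⟩
        simpa [mul_assoc] using hAs s⁻¹ (inv_mem hs) _ h
      · intro a ha hco
        -- restrict to `R ⊓ T`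
        have key : ∀ b ∈ E.autGroup R, (orderOf b).Coprime p →
            ∀ x : R, (x : Ω) ∈ A → ((b x : R) : Ω) ∈ A := by
          intro b hb hbo x hxA
          have hbR : IsMap E R (autFn b) := (mem_autGroup_iff hRS).1 hb
          have hbT : ∀ y ∈ R ⊓ T, autFn b y ∈ R ⊓ T := fun y hy =>
            ⟨autFn_mem b hy.1, (stronglyClosed_iff.1 hT).2 R _ hbR y hy.1 hy.2⟩
          have hRT : R ⊓ T ≤ S := inf_le_right.trans hTS
          have hbi : IsIso E (R ⊓ T) (R ⊓ T) (autFn b) :=
            ⟨hbR.mono inf_le_left, eq_of_le_of_card hRT (hbR.img_le inf_le_left hbT)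
              (hbR.card_img inf_le_left).ge⟩
          obtain ⟨c, hc, hce⟩ := exists_aut_of_isIso hbi
          have hpow : ∀ (n : ℕ) (y : ↥(R ⊓ T)),
              (((c ^ n) y : ↥(R ⊓ T)) : Ω) = ((b ^ n) ⟨y, y.2.1⟩ : R) := by
            intro n
            induction n with
            | zero => intro y; rfl
            | succ n ih =>
              intro y
              rw [pow_succ', pow_succ', MulAut.mul_apply, MulAut.mul_apply, hce]
              rw [show (((c ^ n) y : ↥(R ⊓ T)) : Ω) = ((b ^ n) ⟨y, y.2.1⟩ : R) from ih y,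
                autFn_apply b (SetLike.coe_mem _)]
          have hco' : (orderOf c).Coprime p := hbo.coprime_dvd_left <| orderOf_dvd_of_pow_eq_one <|
            MulEquiv.ext fun y => Subtype.ext (by rw [hpow, pow_orderOf_eq_one]; rfl)
          have hcD : c ∈ D.autGroup (R ⊓ T) :=
            hD.2.2.2 _ inf_le_right ⟨⟨c, hc⟩, Subgroup.subset_closure (by
              show (orderOf (⟨c, hc⟩ : E.autGroup _)).Coprime p
              rwa [Subgroup.orderOf_mk]), rfl⟩
          have hxT : (x : Ω) ∈ R ⊓ T := ⟨x.2, hAT hxA⟩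
          have h1 := (stronglyClosed_iff.1 hA).2 _ _ ((mem_autGroup_iff inf_le_right).1 hcD) x hxT hxA
          rw [autFn_apply c hxT, hce, autFn_apply b x.2] at h1
          exact h1
        intro x
        refine ⟨key a ha hco x, fun h => ?_⟩
        have := key a⁻¹ (inv_mem ha) (by rwa [orderOf_inv]) (a x) h
        rwa [MulAut.inv_apply_self] at this
    intro x hx hxA
    rw [autFn_apply α hx]
    exact (hle hα ⟨x, hx⟩).1 hxA
  have hQE : E.IsNormal Q := by
    refine isNormal_of_lcs hS hEs (hQT.trans hTS) fun k => hclosed _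
      ((lowerCentralSeries_le_self Q k).trans hQT) (stronglyClosed_lowerCentralSeries hQ k)
      fun s hs => lowerCentralSeries_invariant ((IsMap.conj (F := E) le_rfl hs).mono (hQT.trans hTS))
        (hQs s hs) k
  have hQ' : E.IsNormal E.core := S5145.result E
  set Q' := E.core with hQ'def
  have hQQ' : Q ≤ Q' := normal_le_core hQE
  set C := centralizerIn S Q' with hCdef
  have hC : E.StronglyClosed C := by
    refine stronglyClosed_iff.2 ⟨inf_le_left, fun P f hf x hxP hx => ?_⟩
    obtain ⟨g, hg, hgf, hgN⟩ := (FusionChain.isNormal_iff.1 hQ').2 P f hf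
    refine mem_centralizerIn.2 ⟨hf.mem hxP, fun q hq => ?_⟩
    have himg : img g Q' = Q' := eq_of_le_of_card hQ'.1 (hg.img_le le_sup_right hgN)
      (hg.card_img le_sup_right).ge
    obtain ⟨q', hq', rfl⟩ := (hg.mem_img_iff (le_sup_right : Q' ≤ P ⊔ Q')).1 (himg.symm ▸ hq)
    rw [← hgf x hxP, ← hg.map_mul (Subgroup.mem_sup_right hq') (Subgroup.mem_sup_left hxP),
      ← hg.map_mul (Subgroup.mem_sup_left hxP) (Subgroup.mem_sup_right hq'),
      (mem_centralizerIn.1 hx).2 q' hq']
  -- the series `C ⊓ T γᵢ(S)`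
  let γ : ℕ → Subgroup Ω := fun i => T ⊔ S.lowerCentralSeries i
  have hTn : ∀ s ∈ S, ∀ t ∈ T, s * t * s⁻¹ ∈ T := fun s hs t ht => conj_mem_of_stronglyClosed hT hs ht
  have hγS : ∀ i, γ i ≤ S := fun i => sup_le hTS (lowerCentralSeries_le_self S i)
  have hlS : ∀ i, ∀ s ∈ S, ∀ c ∈ S.lowerCentralSeries i, s * c * s⁻¹ ∈ S.lowerCentralSeries i :=
    fun i s hs c hc => lowerCentralSeries_invariant (IsMap.conj (F := E) le_rfl hs)
      (fun y hy => mul_mem (mul_mem hs hy) (inv_mem hs)) i c hc
  have hγn : ∀ i, ∀ s ∈ S, ∀ x ∈ γ i, s * x * s⁻¹ ∈ γ i := by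
    intro i s hs x hx
    have : γ i ≤ (γ i).comap (MulAut.conj s).toMonoidHom := sup_le
      (fun t ht => Subgroup.mem_sup_left (hTn s hs t ht))
      (fun c hc => Subgroup.mem_sup_right (hlS i s hs c hc))
    exact this hx
  have hγc : ∀ i, E.StronglyClosed (γ i) := by
    intro i
    refine stronglyClosed_iff.2 ⟨hγS i, fun P f hf x hxP hx => ?_⟩
    haveI := FusionTate.hyperfocal_normal (F := E) (p := p)
    let π := QuotientGroup.mk' ((E.hyperfocalSubgroup p).subgroupOf S)
    obtain ⟨c, hc⟩ := FusionTate.exists_conj_mod_hyperfocal hS hEs π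
      (fun u hu => (QuotientGroup.eq_one_iff u).2 hu) hf
    have h1 := QuotientGroup.eq.1 ((hc ⟨x, hf.le hxP⟩ ⟨f x, hf.mem hxP⟩ hxP rfl).symm)
    have h2 : ((c : Ω) * x * (c : Ω)⁻¹)⁻¹ * f x ∈ T := by rw [hTdef]; exact h1
    have := mul_mem (hγn i c c.2 x hx) (Subgroup.mem_sup_left (T := S.lowerCentralSeries i) h2)
    rwa [mul_inv_cancel_left] at this
  obtain ⟨n, hn⟩ := exists_lowerCentralSeries_eq_bot (S := S) hS le_rfl
  have hbot : C ⊓ γ n ≤ Q' := by
    rintro x ⟨hx1, hx2⟩
    simp only [γ, hn, sup_bot_eq] at hx2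
    exact hQQ' (hCQ (mem_centralizerIn.2 ⟨hx2, fun q hq => (mem_centralizerIn.1 hx1).2 q (hQQ' hq)⟩))
  have hCn : E.IsNormal C := by
    refine isNormal_of_chain hS hEs (n + 1)
      (fun j => if j = 0 then ⊥ else C ⊓ γ (n - (j - 1))) rfl ?_ ?_ hC (fun j _ hj => ?_) fun j hj => ?_
    · simp only [Nat.succ_ne_zero, if_false, Nat.add_sub_cancel, Nat.sub_self, γ,
        Subgroup.lowerCentralSeries_zero, inf_eq_left]
      exact hC.1.trans le_sup_right
    · refine monotone_nat_of_le_succ fun j => ?_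
      simp only [Nat.succ_ne_zero, if_false, Nat.add_sub_cancel]
      split_ifs with h
      · exact bot_le
      · exact inf_le_inf_left C (sup_le_sup_left (S.lowerCentralSeries_antitone (by omega)) T)
    · rw [if_neg (by omega)]
      exact stronglyClosed_iff.2 ⟨inf_le_left.trans hC.1, fun P f hf x hxP hx =>
        ⟨(stronglyClosed_iff.1 hC).2 P f hf x hxP hx.1,
          (stronglyClosed_iff.1 (hγc _)).2 P f hf x hxP hx.2⟩⟩
    · simp only [Nat.succ_ne_zero, if_false, Nat.add_sub_cancel]
      rcases Nat.eq_zero_or_pos j with rfl | hpos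
      · simp only [if_true, le_bot_iff, Nat.sub_zero, Subgroup.commutator_eq_bot_iff_le_centralizer]
        exact fun x hx => Subgroup.mem_centralizer_iff.2 fun y hy =>
          ((mem_centralizerIn.1 hx).2 y (hbot hy)).symm ▸ rfl
      · rw [if_neg (by omega), Subgroup.commutator_le]
        intro x hx y hy
        refine ⟨C.mul_mem (C.mul_mem (C.mul_mem hx hy.1) (C.inv_mem hx)) (C.inv_mem hy.1), ?_⟩
        have hy2 : y ∈ ((T ⊔ S.lowerCentralSeries (n - j) : Subgroup Ω) : Set Ω) := hy.2
        rw [Subgroup.coe_mul_of_right_le_normalizer_left T _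
          (((lowerCentralSeries_le_self S _)).trans (normalizes_of_stronglyClosed hT))] at hy2
        obtain ⟨t, ht, c, hc, rfl⟩ := hy2
        have hxS : x ∈ S := hC.1 hx
        have hcS : c ∈ S := lowerCentralSeries_le_self S _ hc
        have e : x * (t * c) * x⁻¹ * (t * c)⁻¹ =
            (x * t * x⁻¹ * t⁻¹) * (t * (x * c * x⁻¹ * c⁻¹) * t⁻¹) := by group
        show x * (t * c) * x⁻¹ * (t * c)⁻¹ ∈ γ (n - (j - 1))
        rw [e]
        refine mul_mem (Subgroup.mem_sup_left (T.mul_mem (hTn x hxS t ht) (inv_mem ht))) ?_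
        refine hγn _ t (hTS ht) _ (Subgroup.mem_sup_right ?_)
        rw [show n - (j - 1) = n - j + 1 by omega, Subgroup.lowerCentralSeries_succ,
          Subgroup.commutator_comm]
        exact Subgroup.commutator_mem_commutator hxS hc
  refine ⟨hEs, Q', hQ', hQ'.1, fun R hR => eq_of_isConj_closed (stronglyClosed_of_normal hQ') hR ▸ ?_⟩
  exact normal_le_core hCn

end Cfsg.Agent.FusionResidual
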