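import Cfsg.Agent.EqLemmas
import Cfsg.Agent.Lib.FusionResidual.Lift
import Cfsg.Agent.Lib.FusionHyperfocal.Group
import Cfsg.Agent.Lib.ClassIndex.PSolvable
import Cfsg.Agent.Lib.PLocal.ActionStable
import Cfsg.Agent.Lib.SelfCentPrime.Derived
import Cfsg.Agent.S5141

/-
Residual subsystems of systems with a model, and the `p`-solvable models.
Main results: `isModel_of_normal`, `residual_model`, `exists_pResidual`, `pResidual_model`,
`isPSolvable_of_normal`, `exists_last_step`, `constrained_and_psolvable`, `terminating_of_model`.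
-/

set_option autoImplicit false

universe u

namespace Cfsg.Agent.FusionResidual

open Cfsg Cfsg.FusionSystem Cfsg.Agent.Fusion Cfsg.Agent.FusionNormal Cfsg.Agent.FusionIso

variable {p : ℕ} [Fact p.Prime]

section PSolvable

theorem pPrimeCore_normal_map {G : Type u} [Group G] [Finite G] (K : Subgroup G) [K.Normal] :
    ((Cfsg.pPrimeCore p K).map K.subtype).Normal := by
  refine ⟨fun x hx g => ?_⟩
  obtain ⟨y, hy, rfl⟩ := hx
  let a : MulAut K := MulAut.conjNormal g
  have hle : (Cfsg.pPrimeCore p K).map a.toMonoidHom ≤ Cfsg.pPrimeCore p K := by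
    refine le_sSup ⟨(SelfCentPrime.pPrimeCore_normal p K).map _ a.surjective, ?_⟩
    rw [Subgroup.card_map_of_injective (f := a.toMonoidHom) a.injective]
    exact SelfCentPrime.card_pPrimeCore_coprime p K
  exact ⟨a y, hle ⟨y, hy, rfl⟩, MulAut.conjNormal_apply g y⟩

/-- Extensions of `p`-solvable groups by `p`- or `p'`-groups are `p`-solvable. -/
theorem isPSolvable_of_normal : ∀ (n : ℕ) {G : Type u} [Group G] [Finite G] (K : Subgroup G),
    Nat.card G = n → K.Normal → Cfsg.IsPSolvable p K →
    ((∃ m, K.index = p ^ m) ∨ K.index.Coprime p) → Cfsg.IsPSolvable p G := by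
  intro n
  induction n using Nat.strong_induction_on with
  | _ n ih =>
    intro G _ _ K hn hK hKs hidx
    haveI := hK
    by_cases hKb : K = ⊥
    · subst hKb
      rw [Subgroup.index_bot] at hidx
      haveI : Subsingleton (G ⧸ (⊤ : Subgroup G)) := QuotientGroup.subsingleton_quotient_top
      exact ClassIndex.isPSolvable_of_ext ⊤ (by rwa [Subgroup.card_top])
        (ClassIndex.isPSolvable_of_subsingleton _ p)
    haveI : Nontrivial K := (Subgroup.nontrivial_iff_ne_bot K).2 hKb
    obtain ⟨M, hMn, hMne, hMcard⟩ :=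
      (Solvable.isPiSeparable_of_isPSolvable hKs).exists_normal_ne_bot
    -- a nontrivial characteristic `p`- or `p'`-subgroup of `K`
    obtain ⟨N, hN, hNK, hNne, hNcard⟩ : ∃ N : Subgroup G, N.Normal ∧ N ≤ K ∧ N ≠ ⊥ ∧
        ((∃ m, Nat.card N = p ^ m) ∨ (Nat.card N).Coprime p) := by
      rcases hMcard with h | h
      · refine ⟨(Cfsg.pCore p K).map K.subtype, PReduced.pCore_map_subtype_normal hK p,
          Subgroup.map_subtype_le _, ?_, Or.inl ?_⟩
        · rw [Ne, (Subgroup.map_eq_bot_iff_of_injective _ K.subtype_injective)]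
          intro h0
          refine hMne (le_bot_iff.1 (h0 ▸ FusionChain.le_pCore_of_normal M hMn ?_))
          exact IsPGroup.of_card (n := (Nat.card M).factorization p)
            (Nat.eq_prime_pow_of_unique_prime_dvd Nat.card_pos.ne' (fun {q} hq hd => h q hq hd) ▸
              (by
                rw [(Fact.out : p.Prime).factorization_pow, Finsupp.single_eq_same]))
        · rw [Subgroup.card_map_of_injective K.subtype_injective]
          exact IsPGroup.iff_card.1 (PReduced.isPGroup_pCore p)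
      · refine ⟨(Cfsg.pPrimeCore p K).map K.subtype, pPrimeCore_normal_map K,
          Subgroup.map_subtype_le _, ?_, Or.inr ?_⟩
        · rw [Ne, (Subgroup.map_eq_bot_iff_of_injective _ K.subtype_injective)]
          intro h0
          refine hMne (le_bot_iff.1 (h0 ▸ le_sSup ⟨hMn, ?_⟩))
          exact ((Fact.out : p.Prime).coprime_iff_not_dvd.2 fun hd => h p Fact.out hd rfl).symm
        · rw [Subgroup.card_map_of_injective K.subtype_injective]
          exact SelfCentPrime.card_pPrimeCore_coprime p K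
    haveI := hN
    have hlt : Nat.card (G ⧸ N) < n := hn ▸ Solvable.card_quotient_lt hNne
    refine ClassIndex.isPSolvable_of_ext N hNcard
      (ih _ hlt (K.map (QuotientGroup.mk' N)) rfl
        (hK.map _ (QuotientGroup.mk'_surjective N)) ?_ ?_)
    · exact PLocal.isPSolvable_surjective hKs ((QuotientGroup.mk' N).subgroupMap K)
        (MonoidHom.subgroupMap_surjective _ _)
    · rwa [Subgroup.index_map_eq _ (QuotientGroup.mk'_surjective N)
        (by rwa [QuotientGroup.ker_mk'])]

theorem exists_last_step {G : Type u} [Group G] [Nontrivial G] (h : Cfsg.IsPSolvable p G) :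
    ∃ N : Subgroup G, N.Normal ∧ N ≠ ⊤ ∧ ((∃ m, N.index = p ^ m) ∨ N.index.Coprime p) := by
  obtain ⟨n, H, h0, hl, -, hn, hs⟩ := h
  suffices ∀ i, H i = ⊤ → ∃ N : Subgroup G, N.Normal ∧ N ≠ ⊤ ∧
      ((∃ m, N.index = p ^ m) ∨ N.index.Coprime p) from this _ hl
  intro i
  induction i using Fin.induction with
  | zero => intro hi; exact absurd (h0.symm.trans hi) bot_ne_top
  | succ i ih =>
    intro hi
    by_cases hc : H i.castSucc = ⊤
    · exact ih hc
    · have := hs i
      rw [hi, Subgroup.relIndex_top_right] at this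
      exact ⟨_, hn _, hc, this⟩

end PSolvable

variable {Ω : Type u} [Group Ω] {S : Subgroup Ω} [Finite S]

/-- A system isomorphic to that of a normal subgroup of a group of characteristic `p` has that
subgroup as a model. -/
theorem isModel_of_normal {E : FusionSystem S} {G : Type u} [Group G] [Finite G]
    (hG : Subgroup.centralizer ((pCore p G : Subgroup G) : Set G) ≤ pCore p G)
    {H R : Subgroup G} (hHn : H.Normal) (hRH : R ≤ H) (hs : IsSylowIn p R H)
    (e : FIso E (fusionSystemOfSubgroup H R hRH)) : ∃ κ : S →* H, E.IsModel p H κ := by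
  let e' := e.trans (subgroupIso hRH).symm
  refine ⟨homOf e', inferInstance, isRealizedBy_of_iso e', ?_, ?_⟩
  · obtain ⟨R', hR'⟩ := (isSylowIn_iff_exists hRH).1 hs
    exact ⟨R', hR'.trans (homOf_range e').symm⟩
  · have hQn : (pCore p G).Normal := PReduced.pCore_normal p G
    haveI : (pCore p G ⊓ H).Normal := Subgroup.normal_inf_normal _ _
    have hle : (pCore p G ⊓ H).subgroupOf H ≤ pCore p H :=
      FusionChain.le_pCore_of_normal _ inferInstance
        ((isPGroup_subgroupOf inf_le_right).2 ((PReduced.isPGroup_pCore p).to_le inf_le_left))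
    intro x hx
    have hxQ : (x : G) ∈ pCore p G := by
      refine FusionConstrained.stab_inf_ker_le hG (pCore p G ⊓ H) inf_le_left
        ⟨FusionConstrained.mem_stab.2 fun q hq => ⟨?_, ?_⟩, ?_⟩
      · exact Subgroup.mul_mem _ (Subgroup.inv_mem _ hq) (hQn.conj_mem q hq x)
      · have := H.mul_mem (hHn.conj_mem x x.2 q⁻¹) (H.inv_mem x.2)
        simpa [mul_assoc] using this
      · refine Subgroup.mem_centralizer_iff.2 fun y hy => ?_
        have h1 : (⟨y, hy.2⟩ : H) * x = x * ⟨y, hy.2⟩ :=
          Subgroup.mem_centralizer_iff.1 hx _ (hle hy)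
        exact congrArg Subtype.val h1
    exact hle ⟨hxQ, x.2⟩

variable {F : FusionSystem S}

/-- The `p'`-residual subsystem of a system with a model has a normal subgroup as model. -/
theorem residual_model (hS : IsPGroup p S) {G : Type u} [Group G] {ι : S →* G}
    (hM : F.IsModel p G ι) {E : FusionSystem S} (hE : F.IsPPrimeResidual p E) :
    ∃ H : Subgroup G, H.Normal ∧ H.index.Coprime p ∧
      (∀ K : Subgroup G, K.Normal → ι.range ≤ K → K.index.Coprime p → H ≤ K) ∧
      ∃ κ : S →* H, E.IsModel p H κ := by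
  obtain ⟨hfin, hι, ⟨P, hP⟩, hG⟩ := hM
  haveI := hfin
  obtain ⟨e⟩ : Nonempty (FIso F (groupFusionSystem (P : Subgroup G))) :=
    ⟨by rw [hP]; exact ofRealized hι⟩
  have hF : F.IsSaturated p := isSaturated_of_realized hι ⟨P, hP⟩
  have hFw : F.IsWeaklyNormalIn F p := by
    refine ⟨hF, hF, fun _ => subset_rfl, stronglyClosed_iff.2 ⟨le_rfl, fun _ _ hf _ hx _ => hf.mem hx⟩,
      fun Q hQ φ hφ α hα => ?_, fun Q hQ φ hφ => ⟨1, one_mem _, φ, hφ, fun x hx => rfl⟩⟩
    have ha : IsMap F S (autFn α) := (mem_autGroup_iff le_rfl).1 hα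
    have hb : IsMap F S (autFn α⁻¹) := (mem_autGroup_iff le_rfl).1 (inv_mem hα)
    have hinv : ∀ x ∈ S, autFn α⁻¹ (autFn α x) = x := fun x hx => by
      rw [autFn_apply α hx, autFn_apply α⁻¹ (α ⟨x, hx⟩).2, MulAut.inv_apply_self]
    set D := (Q.subgroupOf S).map (S.subtype.comp α.toMonoidHom) with hD
    have hDS : D ≤ S := by rintro _ ⟨x, -, rfl⟩; exact (α x).2
    have hDQ : ∀ y ∈ D, autFn α⁻¹ y ∈ Q := by
      rintro _ ⟨x, hx, rfl⟩
      show autFn α⁻¹ ((α x : S) : Ω) ∈ Q
      rw [← autFn_apply α x.2, hinv _ x.2]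
      exact hx
    have hc := ((hb.mono hDS).comp (isMap_toFn hφ) hDQ).comp ha fun y hy =>
      (isMap_toFn hφ).mem (hDQ y hy)
    obtain ⟨χ, hχ, hχe⟩ := hc
    refine ⟨χ, hχ, fun x hx hax => ?_⟩
    rw [hχe _ hax]
    show autFn α (toFn φ (autFn α⁻¹ _)) = _
    rw [← autFn_apply α (hQ x.2), hinv _ (hQ x.2), toFn_coe, autFn_apply α hx]
  have hEn : E.IsNormalIn F p := S5141.result p hS F hF F hFw E hE
  have hT' : S = e.symm.im (P : Subgroup G) := e.symm.im_top.symm
  have hE' := e.symm.isNormalIn_pullSub le_rfl hT' (isSaturated_group P) hEn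
  obtain ⟨H, hPH, hHn, hHs, heq⟩ := FusionConstrained.exists_normal_subgroup P hG hE'
  have hco : ∀ K : Subgroup G, (P : Subgroup G) ≤ K → K.index.Coprime p := fun K hK =>
    Nat.Coprime.coprime_dvd_left (Subgroup.index_dvd_of_le hK)
      ((Fact.out : p.Prime).coprime_iff_not_dvd.2 P.not_dvd_index).symm
  refine ⟨H, hHn, hco H hPH, fun K hK hrK hKi => ?_,
    isModel_of_normal hG hHn hPH hHs
      ((e.symm.subIso le_rfl hT' E).symm.trans (castIso heq))⟩
  rw [← hP] at hrK
  haveI := hK
  haveI := hHn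
  have hKs : IsSylowIn p (P : Subgroup G) K :=
    ⟨hrK, P.isPGroup', fun C hC _ hCp => P.is_maximal' hCp hC⟩
  set FK := fusionSystemOfSubgroup K (P : Subgroup G) hrK with hFK
  have hsub : FK.IsSubsystemOf (groupFusionSystem (P : Subgroup G)) := by
    rintro Q φ ⟨hQ, hφ, g, -, hg⟩
    exact ⟨hQ, hφ, g, hg⟩
  have hidx : FK.HasPrimeToPIndexIn (groupFusionSystem (P : Subgroup G)) p := by
    refine ⟨hsub, fun Q hQ => ?_⟩
    rw [Subgroup.map_le_iff_le_comap, Subgroup.closure_le]
    intro α hα
    obtain ⟨k, hk⟩ := hα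
    obtain ⟨-, g, hg⟩ := isMap_group_iff.1 ((mem_autGroup_iff hQ).1 α.2)
    have hgx : ∀ x : Q, (((α : MulAut Q) x : Q) : G) = g * x * g⁻¹ := fun x => by
      have := (hg x x.2).2
      rwa [autFn_apply _ x.2] at this
    have hpow : ∀ (m : ℕ) (x : Q),
        ((((α : MulAut Q) ^ m) x : Q) : G) = g ^ m * x * (g ^ m)⁻¹ := by
      intro m
      induction m with
      | zero => simp
      | succ m ih => intro x; rw [pow_succ', MulAut.mul_apply, hgx, ih]; group
    have hord : orderOf (α : MulAut Q) = p ^ k := by rw [Subgroup.orderOf_coe]; exact hk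
    obtain ⟨j, hj⟩ := exists_pow_eq_self_of_coprime (x := (α : MulAut Q)) (n := K.index)
      (by rw [hord]; exact hKi.pow_right k)
    refine (mem_autGroup_iff hQ).2 ((isMap_subgroup_iff hrK).2
      ⟨hQ, (g ^ K.index) ^ j, pow_mem (K.pow_index_mem g) j, fun x hx => ?_⟩)
    have e1 : (((α : MulAut Q) ⟨x, hx⟩ : Q) : G) =
        (g ^ K.index) ^ j * x * ((g ^ K.index) ^ j)⁻¹ := by
      rw [← pow_mul, ← hpow _ ⟨x, hx⟩, pow_mul, hj]
    exact ⟨e1 ▸ hQ ((α : MulAut Q) ⟨x, hx⟩).2, (autFn_apply _ hx).trans e1⟩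
  have hT : (P : Subgroup G) = e.im S := e.im_top.symm
  have hle := hE.2.2 _ ((e.subIso le_rfl hT FK).symm.isSaturated (isSaturated_subgroup hKs))
    (primeIndex_pullSub e hT hidx)
  refine FusionConstrained.normal_subgroup_unique P hG
    (stronglyClosed_iff.2 ⟨le_rfl, fun _ _ hf _ hx _ => hf.mem hx⟩) hPH hrK hHs hKs fun Q => ?_
  rw [← heq]
  intro φ hφ
  have h1 := isMap_toFn hφ
  have h2 := ((e.symm.isMap_pullSub_iff le_rfl hT' E h1.le fun x hx => h1.mem hx).1 h1)
  have h3 := isMap_of_sub hle h2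
  have h4 := (e.isMap_pullSub_iff le_rfl hT FK h2.le fun x hx => h2.mem hx).1 h3
  rw [e.im_symm_im h1.le] at h4
  refine mem_of_isMap (h4.congr fun y hy => ?_) fun x => (toFn_coe φ x).symm
  show e.toFun (e.invFun (toFn φ (e.toFun (e.invFun y)))) = toFn φ y
  rw [e.right y (h1.le hy), e.right _ (h1.mem hy)]

/-- A system with a model has a `p`-residual subsystem. -/
theorem exists_pResidual {G : Type u} [Group G] {ι : S →* G} (hM : F.IsModel p G ι) :
    ∃ D, F.IsPResidual p D := by
  obtain ⟨hfin, hι, ⟨P, hP⟩, -⟩ := hM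
  haveI := hfin
  obtain ⟨e⟩ : Nonempty (FIso F (groupFusionSystem (P : Subgroup G))) :=
    ⟨by rw [hP]; exact ofRealized hι⟩
  have hle := hyperfocal_le (p := p) F
  have hT' : (P : Subgroup G) ⊓ pResidual p G = e.im (F.hyperfocalSubgroup p) := by
    rw [im_hyperfocal_eq, FusionHyperfocal.hyperfocal_group]
  exact ⟨e.pullSub hle hT' _,
    (e.subIso hle hT' _).symm.isSaturated (isSaturated_subgroup (FusionHyperfocal.residual_sylowIn P)),
    pPowerIndex_pullSub e hle hT' (FusionHyperfocal.residual_pPowerIndex P)⟩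

/-- The `p`-residual subsystem of a system with model `G` has model `O^p(G)`. -/
theorem pResidual_model (hS : IsPGroup p S) {G : Type u} [Group G] {ι : S →* G}
    (hM : F.IsModel p G ι) {D : FusionSystem (F.hyperfocalSubgroup p)} (hD : F.IsPResidual p D) :
    ∃ κ : F.hyperfocalSubgroup p →* pResidual p G, D.IsModel p (pResidual p G) κ := by
  obtain ⟨hfin, hι, ⟨P, hP⟩, hG⟩ := hM
  haveI := hfin
  haveI : Finite (F.hyperfocalSubgroup p) := finite_of_le (hyperfocal_le F)
  obtain ⟨e⟩ : Nonempty (FIso F (groupFusionSystem (P : Subgroup G))) :=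
    ⟨by rw [hP]; exact ofRealized hι⟩
  set K := pResidual p G with hK
  have hT' : F.hyperfocalSubgroup p = e.symm.im ((P : Subgroup G) ⊓ K) := by
    rw [← FusionHyperfocal.hyperfocal_group, im_hyperfocal_eq]
  have hpi := pPowerIndex_pullSub e.symm inf_le_left hT' hD.2
  have hs := (e.symm.subIso inf_le_left hT' D).symm.isSaturated hD.1
  have hTp : IsPGroup p ((P : Subgroup G) ⊓ K : Subgroup G) := P.isPGroup'.to_le inf_le_left
  have heq : e.symm.pullSub inf_le_left hT' D =
      fusionSystemOfSubgroup K ((P : Subgroup G) ⊓ K) inf_le_right :=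
    ext_of_le
      (isSubsystemOf_of_pPowerIndex hTp hs hpi.1 (FusionHyperfocal.residual_pPowerIndex P) le_rfl)
      (isSubsystemOf_of_pPowerIndex hTp
        (isSaturated_subgroup (FusionHyperfocal.residual_sylowIn P))
        (FusionHyperfocal.residual_subsystem P) hpi le_rfl)
  exact isModel_of_normal hG (PReduced.pResidual_normal p G) inf_le_right
    (FusionHyperfocal.residual_sylowIn P)
    ((e.symm.subIso inf_le_left hT' D).symm.trans (castIso heq))

theorem psolvable_model_of_trivial (hS : S = ⊥) {G : Type u} [Group G] {ι : S →* G}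
    (hM : F.IsModel p G ι) : Cfsg.IsPSolvable p G := by
  obtain ⟨hfin, hι, ⟨P, hP⟩, hG⟩ := hM
  haveI := hfin
  have hr : (P : Subgroup G) = ⊥ := by
    rw [hP]
    refine le_bot_iff.1 ?_
    rintro _ ⟨s, rfl⟩
    have : s = 1 := Subtype.ext (Subgroup.mem_bot.1 (hS ▸ s.2))
    rw [this, map_one]
    exact one_mem _
  have hQ : pCore p G = ⊥ := le_bot_iff.1 ((PReduced.pCore_le_sylow P).trans hr.le)
  rw [hQ] at hG
  haveI : Subsingleton G := by
    refine ⟨fun a b => ?_⟩
    have h : ∀ x : G, x = 1 := fun x => Subgroup.mem_bot.1 (hG (by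
      refine Subgroup.mem_centralizer_iff.2 fun y hy => ?_
      rw [Subgroup.mem_bot.1 hy, one_mul, mul_one]))
    rw [h a, h b]
  exact ClassIndex.isPSolvable_of_subsingleton G p

omit [Fact p.Prime] in
/-- A terminating residual series gives constrainedness with `p`-solvable models. -/
theorem constrained_and_psolvable {S : Subgroup Ω} {F : FusionSystem S}
    (h : F.HasTerminatingResidualSeries p) :
    Fact p.Prime → Finite S → IsPGroup p S → F.IsSaturated p →
      F.IsConstrained p ∧ ∀ (G : Type u) [Group G] (ι : S →* G), F.IsModel p G ι →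
        Cfsg.IsPSolvable p G := by
  induction h with
  | @trivial S F p hbot =>
    intro hp hfin hS hF
    refine ⟨⟨hF, ⊥, FusionChain.isNormal_iff.2 ⟨bot_le, fun P f hf => ?_⟩, bot_le, fun Q _ => ?_⟩,
      fun G _ ι hM => psolvable_model_of_trivial hbot hM⟩
    · refine ⟨f, hf.mono (by rw [sup_bot_eq]), fun x _ => rfl, fun q hq => ?_⟩
      rw [Subgroup.mem_bot.1 hq, hf.map_one]
      exact one_mem _
    · exact (inf_le_left.trans hbot.le).trans bot_le
  | @step S F E p D hE hD _ ih =>
    intro hp hfin hS hF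
    have hle := hyperfocal_le (p := p) E
    obtain ⟨hDc, hDm⟩ := ih hp (finite_of_le hle) (hS.to_le hle) hD.1
    refine ⟨isConstrained_of_pPrimeResidual hS hF hE
      (isConstrained_of_pResidual hS hE.1 rfl hD hDc), fun G _ ι hM => ?_⟩
    haveI := hM.1
    obtain ⟨H, hHn, hHi, -, κ, hκ⟩ := residual_model hS hM hE
    obtain ⟨κ', hκ'⟩ := pResidual_model hS hκ hD
    have hH : Cfsg.IsPSolvable p H := isPSolvable_of_normal _ (pResidual p H) rfl
      (PReduced.pResidual_normal p H) (hDm _ κ' hκ') (Or.inl Transfer.exists_index_pResidual)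
    exact isPSolvable_of_normal _ H rfl hHn hH (Or.inr hHi)

/-- A `p`-solvable model gives a terminating residual series. -/
theorem terminating_of_model : ∀ (n : ℕ) {S : Subgroup Ω} {F : FusionSystem S} {G : Type u} [Group G]
    {ι : S →* G}, Nat.card G = n → Finite S → IsPGroup p S → F.IsModel p G ι →
      Cfsg.IsPSolvable p G → F.HasTerminatingResidualSeries p := by
  intro n
  induction n using Nat.strong_induction_on with
  | _ n ih =>
    intro S F G _ ι hn hfin hS hM hsolv
    by_cases hbot : S = ⊥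
    · exact .trivial F p hbot
    haveI := hM.1
    have hF : F.IsSaturated p := model_saturated hM
    obtain ⟨E, hE⟩ : ∃ E, F.IsPPrimeResidual p E := ⟨_, FusionCrit.isPPrimeResidual_genSys hS hF⟩
    obtain ⟨H, hHn, hHi, hmin, κ, hκ⟩ := residual_model hS hM hE
    obtain ⟨D, hD⟩ := exists_pResidual hκ
    obtain ⟨κ', hκ'⟩ := pResidual_model hS hκ hD
    refine .step F E p D hE hD (ih _ ?_ rfl (finite_of_le (hyperfocal_le E))
      (hS.to_le (hyperfocal_le E)) hκ'
      (PLocal.isPSolvable_subgroup (PLocal.isPSolvable_subgroup hsolv H) _))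
    haveI : Nontrivial G := by
      obtain ⟨x, hx, hx1⟩ := (Subgroup.ne_bot_iff_exists_ne_one.1 hbot : ∃ x : S, x ≠ 1) |>
        fun ⟨x, hx⟩ => (⟨x, trivial, hx⟩ : ∃ x : S, True ∧ x ≠ 1)
      exact ⟨ι x, 1, fun h => hx1 (hM.2.1.1 (h.trans ι.map_one.symm))⟩
    rw [← hn]
    obtain ⟨N, hNn, hNne, hNi⟩ := exists_last_step hsolv
    have h1 : Nat.card (pResidual p H) ≤ Nat.card H := Subgroup.card_le_card_group _
    have h2 : Nat.card H ≤ Nat.card G := Subgroup.card_le_card_group _
    by_contra hcon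
    have hHtop : H = ⊤ := Subgroup.eq_top_of_card_eq H (by omega)
    have hRtop : pResidual p H = ⊤ := Subgroup.eq_top_of_card_eq _ (by omega)
    rcases hNi with ⟨m, hm⟩ | hco
    · refine hNne (top_le_iff.1 fun x _ => ?_)
      have hx : (⟨x, hHtop ▸ Subgroup.mem_top x⟩ : H) ∈ N.subgroupOf H := by
        haveI := hNn
        refine Transfer.pResidual_le_of_index (k := m) ?_ (hRtop ▸ Subgroup.mem_top _)
        show N.relIndex H = p ^ m
        rw [hHtop, Subgroup.relIndex_top_right, hm]
      exact hx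
    · refine hNne (top_le_iff.1 (hHtop ▸ hmin N hNn ?_ hco))
      rintro _ ⟨s, rfl⟩
      haveI := hNn
      obtain ⟨k, hk⟩ := hS s
      obtain ⟨j, hj⟩ := exists_pow_eq_self_of_coprime (x := ι s) (n := N.index)
        (Nat.Coprime.coprime_dvd_right (orderOf_dvd_of_pow_eq_one (by rw [← map_pow, hk, map_one]))
          (hco.pow_right k))
      rw [← hj]
      exact pow_mem (N.pow_index_mem _) j

end Cfsg.Agent.FusionResidual
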